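import Mathlib
import Groth.Prelude.Def_FlatCA

/-! helper7: the closed fibre module `FlatCA.fiberMod 𝔪 S N` over a local ring: its kernel from `N`
is `𝔪 N`, and elements acting injectively on it act injectively on `N ⧸ 𝔪 N`. -/

set_option linter.style.haveILetI false
set_option linter.unusedVariables false
set_option linter.unusedSectionVars false
set_option linter.overlappingInstances false

open TensorProduct IsLocalRing

namespace Groth.Agent.Helper7.NzdFiber

universe u

attribute [local instance] Algebra.TensorProduct.rightAlgebra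

section

variable (R S : Type u) [CommRing R] [IsLocalRing R] [CommRing S] [Algebra R S]

/-- `R ⧸ 𝔪 ≃ κ(𝔪)`. -/
noncomputable def resEquiv : (R ⧸ maximalIdeal R) ≃ₐ[R] (maximalIdeal R).ResidueField :=
  AlgEquiv.ofBijective
    (IsScalarTower.toAlgHom R (R ⧸ maximalIdeal R) (maximalIdeal R).ResidueField)
    (Ideal.bijective_algebraMap_quotient_residueField _)

noncomputable def quotMap :
    (R ⧸ maximalIdeal R) →ₐ[R] (S ⧸ (maximalIdeal R).map (algebraMap R S)) :=
  Ideal.quotientMapₐ _ (Algebra.ofId R S) Ideal.le_comap_map

noncomputable def phi :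
    (maximalIdeal R).Fiber S →ₐ[R] S ⧸ (maximalIdeal R).map (algebraMap R S) :=
  Algebra.TensorProduct.lift ((quotMap R S).comp (resEquiv R).symm.toAlgHom)
    (Ideal.Quotient.mkₐ R _) (fun _ _ => Commute.all _ _)

theorem phi_one_tmul (s : S) : phi R S ((1 : (maximalIdeal R).ResidueField) ⊗ₜ[R] s) =
    Ideal.Quotient.mk _ s := by
  unfold phi
  rw [Algebra.TensorProduct.lift_tmul, map_one, one_mul]
  rfl

noncomputable def phiS :
    (maximalIdeal R).Fiber S →ₗ[S] S ⧸ (maximalIdeal R).map (algebraMap R S) :=
  { toFun := phi R S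
    map_add' := map_add (phi R S)
    map_smul' := fun s z => by
      rw [Algebra.smul_def, map_mul, Algebra.TensorProduct.right_algebraMap_apply, phi_one_tmul,
        RingHom.id_apply, Algebra.smul_def]
      rfl }

theorem phiS_one : phiS R S 1 = 1 := map_one (phi R S)

end

section

variable (R S : Type u) [CommRing R] [IsLocalRing R] [CommRing S] [Algebra R S]
  (N : Type u) [AddCommGroup N] [Module S N] [Module R N] [IsScalarTower R S N]

noncomputable def Psi : FlatCA.fiberMod (maximalIdeal R) S N →ₗ[S]
    N ⧸ ((maximalIdeal R).map (algebraMap R S) • (⊤ : Submodule S N)) :=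
  (TensorProduct.quotTensorEquivQuotSMul N ((maximalIdeal R).map (algebraMap R S))).toLinearMap ∘ₗ
    ((phiS R S).rTensor N)

theorem Psi_toFiberMod (n : N) :
    Psi R S N (FlatCA.toFiberMod (maximalIdeal R) S N n) = Submodule.Quotient.mk n := by
  show (TensorProduct.quotTensorEquivQuotSMul N ((maximalIdeal R).map (algebraMap R S)))
    (((phiS R S).rTensor N) ((1 : (maximalIdeal R).Fiber S) ⊗ₜ[S] n)) = _
  rw [LinearMap.rTensor_tmul, phiS_one]
  exact TensorProduct.quotTensorEquivQuotSMul_mk_one_tmul _ n

theorem algebraMap_smul_tensor (a : R) (ha : a ∈ maximalIdeal R)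
    (x : ((maximalIdeal R).Fiber S) ⊗[S] N) : (algebraMap R S a) • x = 0 := by
  induction x using TensorProduct.induction_on with
  | zero => exact smul_zero _
  | tmul z n =>
    have h1 : (algebraMap R S a) • z = 0 := by
      rw [algebraMap_smul]
      induction z using TensorProduct.induction_on with
      | zero => exact smul_zero _
      | tmul c t =>
        rw [TensorProduct.smul_tmul', Algebra.smul_def, mul_comm]
        have : algebraMap R (maximalIdeal R).ResidueField a = 0 := by
          rw [Ideal.algebraMap_residueField_eq_zero]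
          exact ha
        rw [this, mul_zero, zero_tmul]
      | add x y hx hy => rw [smul_add, hx, hy, add_zero]
    rw [TensorProduct.smul_tmul', h1, zero_tmul]
  | add x y hx hy => rw [smul_add, hx, hy, add_zero]

theorem algebraMap_smul_fiberMod (a : R) (ha : a ∈ maximalIdeal R)
    (x : FlatCA.fiberMod (maximalIdeal R) S N) : (algebraMap R S a) • x = 0 :=
  algebraMap_smul_tensor R S N a ha x

theorem algebraMap_fiber_smul_tensor (s : S) (x : ((maximalIdeal R).Fiber S) ⊗[S] N) :
    (algebraMap S ((maximalIdeal R).Fiber S) s) • x = s • x := by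
  induction x using TensorProduct.induction_on with
  | zero => rw [smul_zero, smul_zero]
  | tmul z n =>
    rw [TensorProduct.smul_tmul', TensorProduct.smul_tmul', smul_eq_mul, Algebra.smul_def]
  | add x y hx hy => rw [smul_add, smul_add, hx, hy]

theorem algebraMap_fiber_smul (s : S) (x : FlatCA.fiberMod (maximalIdeal R) S N) :
    (algebraMap S ((maximalIdeal R).Fiber S) s) • x = s • x :=
  algebraMap_fiber_smul_tensor R S N s x

theorem toFiberMod_eq_zero_iff (n : N) :
    FlatCA.toFiberMod (maximalIdeal R) S N n = 0 ↔
      n ∈ (maximalIdeal R • ⊤ : Submodule R N) := by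
  have hP : ∀ y : N, y ∈ (maximalIdeal R • ⊤ : Submodule R N) ↔
      y ∈ ((maximalIdeal R).map (algebraMap R S) • ⊤ : Submodule S N) := by
    intro y
    have := Ideal.smul_restrictScalars (maximalIdeal R) (⊤ : Submodule S N)
    rw [Submodule.restrictScalars_top] at this
    rw [← this]
    rfl
  constructor
  · intro h
    rw [hP, ← Submodule.Quotient.mk_eq_zero, ← Psi_toFiberMod, h, map_zero]
  · intro h
    refine Submodule.smul_induction_on h ?_ ?_
    · intro a ha m _
      rw [← algebraMap_smul S a m, map_smul]
      exact algebraMap_smul_fiberMod R S N a ha _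
    · intro x y hx hy
      rw [map_add, hx, hy, add_zero]

theorem mem_of_smul_mem_of_mem_nzdFiber (s : S) (hs : s ∈ FlatCA.nzdFiber R S N) (n : N)
    (h : s • n ∈ (maximalIdeal R • ⊤ : Submodule R N)) :
    n ∈ (maximalIdeal R • ⊤ : Submodule R N) := by
  rw [← toFiberMod_eq_zero_iff R S N] at h ⊢
  rw [map_smul] at h
  exact (mem_nonZeroSMulDivisors_iff.1 hs) _ h

end

end Groth.Agent.Helper7.NzdFiber
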