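import Mathlib
import Groth.Prelude.Def_FlatCA
import Groth.Agent.Lib.Helper7.NzdFiber.FiberMod

/-! helper7: primes of the localization of `S` at the elements acting injectively on the closed
fibre module: they lie inside associated primes of the fibre module; maximal ideals of the
localization correspond to maximal associated primes, and are finite in number. -/

set_option linter.style.haveILetI false
set_option linter.unusedVariables false
set_option linter.unusedSectionVars false
set_option linter.overlappingInstances false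

open TensorProduct IsLocalRing

namespace Groth.Agent.Helper7.NzdFiber

universe u

attribute [local instance] Algebra.TensorProduct.rightAlgebra

section

variable (R S : Type u) [CommRing R] [IsLocalRing R] [CommRing S] [Algebra R S]
  (N : Type u) [AddCommGroup N] [Module S N] [Module R N] [IsScalarTower R S N]

/-- pullbacks of associated primes over the fibre ring are associated primes over `S` -/
theorem comap_mem_associatedPrimes [IsNoetherianRing ((maximalIdeal R).Fiber S)]
    (P : Ideal ((maximalIdeal R).Fiber S))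
    (hP : P ∈ associatedPrimes ((maximalIdeal R).Fiber S)
      (FlatCA.fiberMod (maximalIdeal R) S N)) :
    P.comap (algebraMap S ((maximalIdeal R).Fiber S)) ∈
      associatedPrimes S (FlatCA.fiberMod (maximalIdeal R) S N) := by
  rw [AssociatedPrimes.mem_iff, isAssociatedPrime_iff] at hP
  obtain ⟨hPp, x, hx⟩ := hP
  have hcp : (P.comap (algebraMap S ((maximalIdeal R).Fiber S))).IsPrime := Ideal.comap_isPrime _ P
  refine ⟨hcp, x, ?_⟩
  have h1 : Submodule.colon (⊥ : Submodule S (FlatCA.fiberMod (maximalIdeal R) S N)) {x} =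
      P.comap (algebraMap S ((maximalIdeal R).Fiber S)) := by
    ext s
    rw [Submodule.mem_colon_singleton, Ideal.mem_comap, hx, Submodule.mem_colon_singleton,
      Submodule.mem_bot, Submodule.mem_bot, algebraMap_fiber_smul]
  rw [h1, hcp.radical]

/-- associated primes over `S` of the closed fibre module miss the nonzerodivisors -/
theorem disjoint_of_mem_associatedPrimes (q' : Ideal S)
    (hq' : q' ∈ associatedPrimes S (FlatCA.fiberMod (maximalIdeal R) S N)) :
    Disjoint (q' : Set S) (FlatCA.nzdFiber R S N) := by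
  obtain ⟨hp, x, hx⟩ := hq'
  rw [Set.disjoint_left]
  intro s hs hsT
  rw [SetLike.mem_coe, hx] at hs
  obtain ⟨n, hn⟩ := hs
  rw [Submodule.mem_colon_singleton, Submodule.mem_bot] at hn
  have hpow : s ^ n ∈ FlatCA.nzdFiber R S N := pow_mem hsT n
  have hx0 : x = 0 := (mem_nonZeroSMulDivisors_iff.1 hpow) x hn
  apply hp.ne_top
  rw [hx, hx0, Ideal.radical_eq_top]
  rw [Ideal.eq_top_iff_one, Submodule.mem_colon_singleton, smul_zero]
  exact Submodule.zero_mem _

/-- prime avoidance: a prime missing the nonzerodivisors lies in the pullback of an associated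
prime of the fibre module -/
theorem exists_le_comap_of_disjoint [IsNoetherianRing ((maximalIdeal R).Fiber S)]
    [Module.Finite ((maximalIdeal R).Fiber S) (FlatCA.fiberMod (maximalIdeal R) S N)]
    (q : Ideal S) [q.IsPrime] (hq : Disjoint (q : Set S) (FlatCA.nzdFiber R S N)) :
    ∃ P ∈ associatedPrimes ((maximalIdeal R).Fiber S) (FlatCA.fiberMod (maximalIdeal R) S N),
      q ≤ P.comap (algebraMap S ((maximalIdeal R).Fiber S)) := by
  classical
  have hfin := associatedPrimes.finite ((maximalIdeal R).Fiber S)
    (FlatCA.fiberMod (maximalIdeal R) S N)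
  have hsub : (q : Set S) ⊆ ⋃ P ∈ (hfin.toFinset : Set (Ideal ((maximalIdeal R).Fiber S))),
      ((P.comap (algebraMap S ((maximalIdeal R).Fiber S)) : Ideal S) : Set S) := by
    intro s hs
    have hsT : s ∉ FlatCA.nzdFiber R S N := fun h => Set.disjoint_left.1 hq hs h
    rw [mem_nonZeroSMulDivisors_iff] at hsT
    push Not at hsT
    obtain ⟨x, hx, hx0⟩ := hsT
    have h1 : algebraMap S ((maximalIdeal R).Fiber S) s ∈
        {r : (maximalIdeal R).Fiber S | ∃ x : FlatCA.fiberMod (maximalIdeal R) S N,
          x ≠ 0 ∧ r • x = 0} := ⟨x, hx0, by rw [algebraMap_fiber_smul]; exact hx⟩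
    rw [← biUnion_associatedPrimes_eq_zero_divisors] at h1
    simp only [Set.mem_iUnion] at h1 ⊢
    obtain ⟨P, hP, hsP⟩ := h1
    exact ⟨P, by simpa using hP, hsP⟩
  obtain ⟨P, hP, hle⟩ := (Ideal.subset_union_prime (R := S) (s := hfin.toFinset)
    (f := fun P => P.comap (algebraMap S ((maximalIdeal R).Fiber S))) ⊤ ⊤ (by
      intro P hP _ _
      have : P ∈ associatedPrimes ((maximalIdeal R).Fiber S)
          (FlatCA.fiberMod (maximalIdeal R) S N) := by simpa using hP
      haveI := this.isPrime
      exact Ideal.comap_isPrime _ P)).1 hsub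
  exact ⟨P, by simpa using hP, hle⟩

theorem disjoint_iff [IsNoetherianRing ((maximalIdeal R).Fiber S)]
    [Module.Finite ((maximalIdeal R).Fiber S) (FlatCA.fiberMod (maximalIdeal R) S N)]
    (q : Ideal S) [q.IsPrime] : Disjoint (q : Set S) (FlatCA.nzdFiber R S N) ↔
      ∃ q' ∈ associatedPrimes S (FlatCA.fiberMod (maximalIdeal R) S N), q ≤ q' := by
  constructor
  · intro hq
    obtain ⟨P, hP, hle⟩ := exists_le_comap_of_disjoint R S N q hq
    exact ⟨_, comap_mem_associatedPrimes R S N P hP, hle⟩
  · rintro ⟨q', hq', hle⟩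
    exact Set.disjoint_of_subset_left hle (disjoint_of_mem_associatedPrimes R S N q' hq')

end

section Loc

variable (R S : Type u) [CommRing R] [IsLocalRing R] [CommRing S] [Algebra R S]
  (N : Type u) [AddCommGroup N] [Module S N] [Module R N] [IsScalarTower R S N]
  [IsNoetherianRing ((maximalIdeal R).Fiber S)]
  [Module.Finite ((maximalIdeal R).Fiber S) (FlatCA.fiberMod (maximalIdeal R) S N)]

theorem exists_comap_eq_of_isMaximal (Q : Ideal (Localization (FlatCA.nzdFiber R S N)))
    (hQ : Q.IsMaximal) :
    ∃ P ∈ associatedPrimes ((maximalIdeal R).Fiber S) (FlatCA.fiberMod (maximalIdeal R) S N),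
      Q.comap (algebraMap S (Localization (FlatCA.nzdFiber R S N))) =
        P.comap (algebraMap S ((maximalIdeal R).Fiber S)) := by
  have hQp : Q.IsPrime := hQ.isPrime
  obtain ⟨hqp, hqd⟩ := (IsLocalization.isPrime_iff_isPrime_disjoint (FlatCA.nzdFiber R S N) (Localization (FlatCA.nzdFiber R S N)) Q).1 hQp
  haveI := hqp
  obtain ⟨P, hP, hle⟩ := exists_le_comap_of_disjoint R S N (Q.under S) hqd.symm
  refine ⟨P, hP, ?_⟩
  have hq'A := comap_mem_associatedPrimes R S N P hP
  have hq'p : (P.comap (algebraMap S ((maximalIdeal R).Fiber S))).IsPrime := hq'A.isPrime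
  have hq'd : Disjoint ((FlatCA.nzdFiber R S N : Submonoid S) : Set S) (P.comap (algebraMap S ((maximalIdeal R).Fiber S)) : Ideal S) :=
    (disjoint_of_mem_associatedPrimes R S N _ hq'A).symm
  have hQ'p := IsLocalization.isPrime_of_isPrime_disjoint (FlatCA.nzdFiber R S N) (Localization (FlatCA.nzdFiber R S N)) _ hq'p hq'd
  have h1 : Q ≤ Ideal.map (algebraMap S (Localization (FlatCA.nzdFiber R S N)))
      (P.comap (algebraMap S ((maximalIdeal R).Fiber S))) := by
    conv_lhs => rw [← IsLocalization.map_under (FlatCA.nzdFiber R S N) (Localization (FlatCA.nzdFiber R S N)) Q]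
    exact Ideal.map_mono hle
  have h2 : Q = Ideal.map (algebraMap S (Localization (FlatCA.nzdFiber R S N)))
      (P.comap (algebraMap S ((maximalIdeal R).Fiber S))) := hQ.eq_of_le hQ'p.ne_top h1
  conv_lhs => rw [h2]
  exact IsLocalization.under_map_of_isPrime_disjoint (FlatCA.nzdFiber R S N) (Localization (FlatCA.nzdFiber R S N)) hq'p hq'd

theorem comap_maximal_of_isMaximal (Q : Ideal (Localization (FlatCA.nzdFiber R S N)))
    (hQ : Q.IsMaximal) :
    Maximal (fun r => r ∈ associatedPrimes S (FlatCA.fiberMod (maximalIdeal R) S N))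
      (Q.comap (algebraMap S (Localization (FlatCA.nzdFiber R S N)))) := by
  obtain ⟨P, hP, hQP⟩ := exists_comap_eq_of_isMaximal R S N Q hQ
  refine ⟨?_, ?_⟩
  · show Q.comap (algebraMap S (Localization (FlatCA.nzdFiber R S N))) ∈ _
    rw [hQP]
    exact comap_mem_associatedPrimes R S N P hP
  · intro q'' hq'' hle
    have hq''p : q''.IsPrime := hq''.isPrime
    have hq''d : Disjoint ((FlatCA.nzdFiber R S N : Submonoid S) : Set S) (q'' : Set S) :=
      (disjoint_of_mem_associatedPrimes R S N q'' hq'').symm
    have hQ''p := IsLocalization.isPrime_of_isPrime_disjoint (FlatCA.nzdFiber R S N) (Localization (FlatCA.nzdFiber R S N)) q'' hq''p hq''d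
    have h1 : Q ≤ Ideal.map (algebraMap S (Localization (FlatCA.nzdFiber R S N))) q'' := by
      conv_lhs => rw [← IsLocalization.map_under (FlatCA.nzdFiber R S N) (Localization (FlatCA.nzdFiber R S N)) Q]
      exact Ideal.map_mono hle
    have h2 : Q = Ideal.map (algebraMap S (Localization (FlatCA.nzdFiber R S N))) q'' := hQ.eq_of_le hQ''p.ne_top h1
    have h3 : q'' = Q.comap (algebraMap S (Localization (FlatCA.nzdFiber R S N))) := by
      conv_rhs => rw [h2]
      exact (IsLocalization.under_map_of_isPrime_disjoint (FlatCA.nzdFiber R S N) (Localization (FlatCA.nzdFiber R S N)) hq''p hq''d).symm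
    exact h3.le

theorem isMaximal_iff (Q : Ideal (Localization (FlatCA.nzdFiber R S N))) :
    Q.IsMaximal ↔ (Q.IsPrime ∧
      Maximal (fun r => r ∈ associatedPrimes S (FlatCA.fiberMod (maximalIdeal R) S N))
        (Q.comap (algebraMap S (Localization (FlatCA.nzdFiber R S N))))) := by
  constructor
  · intro hQ
    exact ⟨hQ.isPrime, comap_maximal_of_isMaximal R S N Q hQ⟩
  · rintro ⟨hQp, hmax⟩
    obtain ⟨Qm, hQm, hle⟩ := Ideal.exists_le_maximal Q hQp.ne_top
    have h1 := comap_maximal_of_isMaximal R S N Qm hQm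
    have h2 : Q.comap (algebraMap S (Localization (FlatCA.nzdFiber R S N))) ≤ Qm.comap (algebraMap S (Localization (FlatCA.nzdFiber R S N))) :=
      Ideal.comap_mono hle
    have h3 : Qm.comap (algebraMap S (Localization (FlatCA.nzdFiber R S N))) ≤ Q.comap (algebraMap S (Localization (FlatCA.nzdFiber R S N))) :=
      hmax.2 h1.1 h2
    have h4 : Qm ≤ Q := by
      rw [← IsLocalization.map_under (FlatCA.nzdFiber R S N) (Localization (FlatCA.nzdFiber R S N)) Qm,
        ← IsLocalization.map_under (FlatCA.nzdFiber R S N) (Localization (FlatCA.nzdFiber R S N)) Q]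
      exact Ideal.map_mono h3
    have h5 : Q = Qm := le_antisymm hle h4
    rw [h5]
    exact hQm

theorem finite_isMaximal :
    {Q : Ideal (Localization (FlatCA.nzdFiber R S N)) | Q.IsMaximal}.Finite := by
  have hfin := associatedPrimes.finite ((maximalIdeal R).Fiber S)
    (FlatCA.fiberMod (maximalIdeal R) S N)
  refine (hfin.image (fun P => Ideal.map (algebraMap S (Localization (FlatCA.nzdFiber R S N)))
    (P.comap (algebraMap S ((maximalIdeal R).Fiber S))))).subset ?_
  intro Q hQ
  obtain ⟨P, hP, hQP⟩ := exists_comap_eq_of_isMaximal R S N Q hQ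
  refine ⟨P, hP, ?_⟩
  show Ideal.map (algebraMap S (Localization (FlatCA.nzdFiber R S N)))
    (P.comap (algebraMap S ((maximalIdeal R).Fiber S))) = Q
  rw [← hQP]
  exact IsLocalization.map_under (FlatCA.nzdFiber R S N) (Localization (FlatCA.nzdFiber R S N)) Q

theorem main :
    (∀ (q : Ideal S) [q.IsPrime], Disjoint (q : Set S) (FlatCA.nzdFiber R S N) ↔
        ∃ q' ∈ associatedPrimes S (FlatCA.fiberMod (maximalIdeal R) S N), q ≤ q') ∧
    {Q : Ideal (Localization (FlatCA.nzdFiber R S N)) | Q.IsMaximal}.Finite ∧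
    (∀ Q : Ideal (Localization (FlatCA.nzdFiber R S N)), Q.IsMaximal ↔ (Q.IsPrime ∧
        Maximal (fun r => r ∈ associatedPrimes S (FlatCA.fiberMod (maximalIdeal R) S N))
          (Q.comap (algebraMap S (Localization (FlatCA.nzdFiber R S N)))))) :=
  ⟨fun q _ => disjoint_iff R S N q, finite_isMaximal R S N, isMaximal_iff R S N⟩

end Loc

end Groth.Agent.Helper7.NzdFiber
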