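import Mathlib

/-! helper7: over a local ring, a linear map from a projective module to a flat module which is
injective modulo the maximal ideal stays injective after tensoring with any module. -/

set_option linter.style.haveILetI false
set_option linter.unusedVariables false
set_option linter.unusedSectionVars false
set_option linter.overlappingInstances false

open TensorProduct IsLocalRing

namespace Groth.Agent.Helper7.NzdFiber

universe u

section L1

variable {R : Type u} [CommRing R] [IsLocalRing R]

/-- A map from a free module to a flat module over a local ring which is injective modulo the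
maximal ideal is universally injective. -/
theorem lTensor_injective_of_free {F N : Type*} [AddCommGroup F] [Module R F] [Module.Free R F]
    [AddCommGroup N] [Module R N] [Module.Flat R N] (u : F →ₗ[R] N)
    (hu : Function.Injective (u.lTensor (ResidueField R)))
    (Q : Type*) [AddCommGroup Q] [Module R Q] : Function.Injective (u.lTensor Q) := by
  classical
  let b := Module.Free.chooseBasis R F
  rw [injective_iff_map_eq_zero]
  intro x hx
  obtain ⟨c, rfl⟩ := TensorProduct.eq_repr_basis_right b x
  suffices h : c = 0 by rw [h]; simp
  set s := c.support with hs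
  have hsum : ∑ i : s, (c i) ⊗ₜ[R] u (b i) = (0 : Q ⊗[R] N) := by
    rw [Finsupp.sum, map_sum] at hx
    simp only [LinearMap.lTensor_tmul] at hx
    rw [← Finset.sum_coe_sort] at hx
    exact hx
  have hm : Function.Injective
      (LinearMap.rTensor N (Submodule.span R (Set.range fun i : s => c i)).subtype) :=
    Module.Flat.rTensor_preserves_injective_linearMap _ (Submodule.injective_subtype _)
  obtain ⟨k, a, y, hy, ha⟩ :=
    TensorProduct.vanishesTrivially_of_sum_tmul_eq_zero_of_rTensor_injective R hm hsum
  -- the matrix map
  let l : (s → R) →ₗ[R] (Fin k → R) :=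
    { toFun := fun v j => ∑ i, v i * a i j
      map_add' := fun v w => by
        funext j
        simp only [Pi.add_apply, add_mul, Finset.sum_add_distrib]
      map_smul' := fun r v => by
        funext j
        simp only [Pi.smul_apply, smul_eq_mul, RingHom.id_apply, Finset.mul_sum, mul_assoc] }
  let B : (s → R) →ₗ[R] F := Fintype.linearCombination R (fun i : s => b i)
  let Y : (Fin k → R) →ₗ[R] N := Fintype.linearCombination R y
  let B' : F →ₗ[R] (s → R) :=
    { toFun := fun f i => b.repr f i
      map_add' := fun f g => by funext i; simp
      map_smul' := fun r f => by funext i; simp }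
  have hB'B : B' ∘ₗ B = LinearMap.id := by
    apply LinearMap.ext
    intro v
    funext i
    show b.repr (Fintype.linearCombination R (fun i : s => b i) v) i = v i
    rw [Fintype.linearCombination_apply, map_sum, Finset.sum_apply']
    simp only [map_smul, Module.Basis.repr_self, Finsupp.smul_apply, smul_eq_mul]
    rw [Finset.sum_eq_single i]
    · simp
    · intro j _ hj
      rw [Finsupp.single_apply, if_neg (fun h => hj (Subtype.ext h)), mul_zero]
    · intro h
      exact absurd (Finset.mem_univ i) h
  have huB : u ∘ₗ B = Y ∘ₗ l := by
    apply LinearMap.ext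
    intro v
    show u (Fintype.linearCombination R (fun i : s => b i) v) =
      Fintype.linearCombination R y (fun j => ∑ i, v i * a i j)
    rw [Fintype.linearCombination_apply, Fintype.linearCombination_apply, map_sum]
    simp only [map_smul, hy, Finset.smul_sum, Finset.sum_smul, smul_smul]
    rw [Finset.sum_comm]
  have hBinj : Function.Injective (B.lTensor (ResidueField R)) := by
    have h1 : (B'.lTensor (ResidueField R)) ∘ₗ (B.lTensor (ResidueField R)) = LinearMap.id := by
      rw [← LinearMap.lTensor_comp, hB'B, LinearMap.lTensor_id]
    intro z w hzw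
    have := congr_arg (B'.lTensor (ResidueField R)) hzw
    rw [← LinearMap.comp_apply, ← LinearMap.comp_apply, h1] at this
    exact this
  have hlinj : Function.Injective (l.lTensor (ResidueField R)) := by
    have h1 : Function.Injective ((Y ∘ₗ l).lTensor (ResidueField R)) := by
      rw [← huB, LinearMap.lTensor_comp]
      exact hu.comp hBinj
    rw [LinearMap.lTensor_comp] at h1
    exact Function.Injective.of_comp h1
  obtain ⟨l', hl'⟩ := (IsLocalRing.split_injective_iff_lTensor_residueField_injective l).2 hlinj
  -- conclude
  have hc : ∀ i : s, c i = 0 := by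
    intro i
    have h1 : ∀ v : s → R, l' (l v) = v := fun v => LinearMap.congr_fun hl' v
    have h2 : ∀ w : Fin k → R, l' w = ∑ j, w j • l' (Pi.single j 1) := by
      intro w
      conv_lhs => rw [← Finset.univ_sum_single w]
      rw [map_sum]
      apply Finset.sum_congr rfl
      intro j _
      rw [← map_smul]
      congr 1
      funext j'
      simp [Pi.single_apply]
    have h3 : ∀ i' : s, (∑ j, a i' j * l' (Pi.single j 1) i) = if i' = i then 1 else 0 := by
      intro i'
      have := congr_fun (h1 (Pi.single i' 1)) i
      rw [h2] at this
      simp only [Finset.sum_apply, Pi.smul_apply, smul_eq_mul] at this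
      rw [Pi.single_apply] at this
      have hl : ∀ j, l (Pi.single i' 1) j = a i' j := by
        intro j
        show ∑ i'', (Pi.single i' (1 : R) : s → R) i'' * a i'' j = a i' j
        rw [Finset.sum_eq_single i']
        · simp
        · intro j' _ hj'
          rw [Pi.single_apply, if_neg hj', zero_mul]
        · intro h
          exact absurd (Finset.mem_univ i') h
      simp only [hl] at this
      rw [this]
      by_cases h : i = i'
      · subst h; simp
      · rw [if_neg h, if_neg (fun h' => h h'.symm)]
    calc c i = ∑ i' : s, (if i' = i then (1 : R) else 0) • c i' := by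
          rw [Finset.sum_eq_single i]
          · simp
          · intro j _ hj
            rw [if_neg hj, zero_smul]
          · intro h
            exact absurd (Finset.mem_univ i) h
      _ = ∑ i' : s, (∑ j, a i' j * l' (Pi.single j 1) i) • c i' := by
          simp only [h3]
      _ = ∑ j, l' (Pi.single j 1) i • ∑ i' : s, a i' j • c i' := by
          simp only [Finset.sum_smul, Finset.smul_sum, smul_smul]
          rw [Finset.sum_comm]
          apply Finset.sum_congr rfl
          intro j _
          apply Finset.sum_congr rfl
          intro i' _
          rw [mul_comm]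
      _ = 0 := by
          simp only [ha, smul_zero, Finset.sum_const_zero]
  ext i
  by_cases hi : i ∈ s
  · exact hc ⟨i, hi⟩
  · rw [hs, Finsupp.mem_support_iff, not_not] at hi
    rw [hi]
    rfl

end L1

section FlatProd

variable {R : Type*} [CommRing R]

theorem flat_prod (M N : Type*) [AddCommGroup M] [Module R M] [AddCommGroup N] [Module R N]
    [Module.Flat R M] [Module.Flat R N] : Module.Flat R (M × N) := by
  rw [Module.Flat.iff_lTensor_injective']
  intro I
  have h1 : Function.Injective (I.subtype.lTensor M) :=
    Module.Flat.lTensor_preserves_injective_linearMap _ (Submodule.injective_subtype I)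
  have h2 : Function.Injective (I.subtype.lTensor N) :=
    Module.Flat.lTensor_preserves_injective_linearMap _ (Submodule.injective_subtype I)
  have hnat : (TensorProduct.prodLeft R R M N R).toLinearMap ∘ₗ (I.subtype.lTensor (M × N)) =
      (LinearMap.prodMap (I.subtype.lTensor M) (I.subtype.lTensor N)) ∘ₗ
        (TensorProduct.prodLeft R R M N I).toLinearMap := by
    apply TensorProduct.ext'
    rintro ⟨m, n⟩ a
    simp
  intro x y hxy
  have h3 := congr_arg (TensorProduct.prodLeft R R M N R) hxy
  have h4 : ∀ z, (TensorProduct.prodLeft R R M N R) ((I.subtype.lTensor (M × N)) z) =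
      (LinearMap.prodMap (I.subtype.lTensor M) (I.subtype.lTensor N))
        ((TensorProduct.prodLeft R R M N I) z) := fun z => LinearMap.congr_fun hnat z
  rw [h4, h4] at h3
  have h5 : (TensorProduct.prodLeft R R M N I) x = (TensorProduct.prodLeft R R M N I) y := by
    apply Prod.ext
    · exact h1 (congr_arg Prod.fst h3)
    · exact h2 (congr_arg Prod.snd h3)
  exact (TensorProduct.prodLeft R R M N I).injective h5

end FlatProd

section L1proj

variable {R : Type u} [CommRing R] [IsLocalRing R]

/-- A map from a projective module to a flat module over a local ring which is injective modulo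
the maximal ideal is universally injective. -/
theorem lTensor_injective_of_projective {M N : Type*} [AddCommGroup M] [Module R M]
    [Module.Projective R M] [AddCommGroup N] [Module R N] [Module.Flat R N] (u : M →ₗ[R] N)
    (hu : Function.Injective (u.lTensor (ResidueField R)))
    (Q : Type*) [AddCommGroup Q] [Module R Q] : Function.Injective (u.lTensor Q) := by
  obtain ⟨s, hs⟩ := (Module.projective_def' (R := R) (P := M)).1 inferInstance
  set π : (M →₀ R) →ₗ[R] M := Finsupp.linearCombination R id with hπ
  let κ : (M →₀ R) →ₗ[R] (M →₀ R) := LinearMap.id - s ∘ₗ π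
  let ũ : (M →₀ R) →ₗ[R] N × (M →₀ R) := (u ∘ₗ π).prod κ
  haveI : Module.Flat R (N × (M →₀ R)) := flat_prod N (M →₀ R)
  have hκs : κ ∘ₗ s = 0 := by
    show (LinearMap.id - s ∘ₗ π) ∘ₗ s = 0
    rw [LinearMap.sub_comp, LinearMap.comp_assoc, hs, LinearMap.id_comp, LinearMap.comp_id]
    exact sub_self s
  have hũs : ũ ∘ₗ s = (LinearMap.inl R N (M →₀ R)) ∘ₗ u := by
    apply LinearMap.ext
    intro m
    have h1 : κ (s m) = 0 := LinearMap.congr_fun hκs m
    have h2 : π (s m) = m := LinearMap.congr_fun hs m
    show ((u ∘ₗ π) (s m), κ (s m)) = (u m, 0)
    rw [LinearMap.comp_apply, h1, h2]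
  have hfst : (LinearMap.fst R N (M →₀ R)) ∘ₗ ũ = u ∘ₗ π := LinearMap.fst_prod _ _
  have hsnd : (LinearMap.snd R N (M →₀ R)) ∘ₗ ũ = κ := LinearMap.snd_prod _ _
  have hũ : Function.Injective (ũ.lTensor (ResidueField R)) := by
    rw [injective_iff_map_eq_zero]
    intro z hz
    have h1 : (u ∘ₗ π).lTensor (ResidueField R) z = 0 := by
      rw [← hfst, LinearMap.lTensor_comp, LinearMap.comp_apply, hz, map_zero]
    have h2 : π.lTensor (ResidueField R) z = 0 := by
      rw [LinearMap.lTensor_comp, LinearMap.comp_apply] at h1
      exact hu (by rw [h1, map_zero])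
    have h3 : κ.lTensor (ResidueField R) z = 0 := by
      rw [← hsnd, LinearMap.lTensor_comp, LinearMap.comp_apply, hz, map_zero]
    have h4 : κ.lTensor (ResidueField R) z = z - (s.lTensor (ResidueField R))
        (π.lTensor (ResidueField R) z) := by
      show (LinearMap.id - s ∘ₗ π).lTensor (ResidueField R) z = _
      rw [LinearMap.lTensor_sub, LinearMap.sub_apply, LinearMap.lTensor_id, LinearMap.id_apply,
        LinearMap.lTensor_comp, LinearMap.comp_apply]
    rw [h4, h2, map_zero, sub_zero] at h3
    exact h3
  have hfree := lTensor_injective_of_free ũ hũ Q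
  rw [injective_iff_map_eq_zero]
  intro x hx
  have h1 : ũ.lTensor Q (s.lTensor Q x) = 0 := by
    rw [← LinearMap.comp_apply, ← LinearMap.lTensor_comp, hũs, LinearMap.lTensor_comp,
      LinearMap.comp_apply, hx, map_zero]
  have h2 : s.lTensor Q x = 0 := hfree (by rw [h1, map_zero])
  have h3 : π.lTensor Q (s.lTensor Q x) = x := by
    rw [← LinearMap.comp_apply, ← LinearMap.lTensor_comp, hs, LinearMap.lTensor_id,
      LinearMap.id_apply]
  rw [← h3, h2, map_zero]

end L1proj

end Groth.Agent.Helper7.NzdFiber
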