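import Mathlib
import Groth.Prelude.Def_FlatCA
import Groth.Agent.Lib.Helper7.NzdFiber.UnivInj
import Groth.Agent.Lib.Helper7.NzdFiber.FiberMod

/-! helper7: for a module projective over a local ring, elements of the algebra acting injectively
on the closed fibre act universally injectively, and so does the localization map at all of
them. -/

set_option linter.style.haveILetI false
set_option linter.unusedVariables false
set_option linter.unusedSectionVars false
set_option linter.overlappingInstances false

open TensorProduct IsLocalRing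

namespace Groth.Agent.Helper7.NzdFiber

universe u

section

variable (R S : Type u) [CommRing R] [IsLocalRing R] [CommRing S] [Algebra R S]
  (N : Type u) [AddCommGroup N] [Module S N] [Module R N] [IsScalarTower R S N]

theorem lTensor_residueField_lsmul_injective (s : S) (hs : s ∈ FlatCA.nzdFiber R S N) :
    Function.Injective
      (((LinearMap.lsmul S N s).restrictScalars R).lTensor (ResidueField R)) := by
  let e : ((R ⧸ maximalIdeal R) ⊗[R] N) ≃ₗ[R] N ⧸ (maximalIdeal R • (⊤ : Submodule R N)) :=
    TensorProduct.quotTensorEquivQuotSMul N (maximalIdeal R)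
  rw [injective_iff_map_eq_zero]
  intro x hx
  obtain ⟨y, rfl⟩ := e.symm.surjective x
  obtain ⟨n, rfl⟩ := Submodule.Quotient.mk_surjective _ y
  have h1 : e.symm (Submodule.Quotient.mk n) = (1 : R ⧸ maximalIdeal R) ⊗ₜ[R] n := rfl
  rw [h1] at hx ⊢
  have h2 : (((LinearMap.lsmul S N s).restrictScalars R).lTensor (R ⧸ maximalIdeal R))
      ((1 : R ⧸ maximalIdeal R) ⊗ₜ[R] n) = (1 : R ⧸ maximalIdeal R) ⊗ₜ[R] (s • n) := rfl
  have h3 : e ((1 : R ⧸ maximalIdeal R) ⊗ₜ[R] (s • n)) = 0 := by
    rw [← h2]
    exact (congr_arg e hx).trans (map_zero e)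
  rw [TensorProduct.quotTensorEquivQuotSMul_mk_one_tmul, Submodule.Quotient.mk_eq_zero] at h3
  have h4 := mem_of_smul_mem_of_mem_nzdFiber R S N s hs n h3
  have h5 : e ((1 : R ⧸ maximalIdeal R) ⊗ₜ[R] n) = 0 := by
    rw [TensorProduct.quotTensorEquivQuotSMul_mk_one_tmul, Submodule.Quotient.mk_eq_zero]
    exact h4
  have h6 : ((1 : R ⧸ maximalIdeal R) ⊗ₜ[R] n) = 0 := e.injective (h5.trans (map_zero e).symm)
  exact h6

theorem univInj_lsmul [Module.Projective R N] (s : S) (hs : s ∈ FlatCA.nzdFiber R S N) :
    FlatCA.UnivInj R ((LinearMap.lsmul S N s).restrictScalars R) := by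
  intro Q _ _
  exact lTensor_injective_of_projective _ (lTensor_residueField_lsmul_injective R S N s hs) Q

theorem univInj_mkLinearMap [Module.Projective R N] :
    FlatCA.UnivInj R
      ((LocalizedModule.mkLinearMap (FlatCA.nzdFiber R S N) N).restrictScalars R) := by
  intro Q _ _
  set T := FlatCA.nzdFiber R S N with hT
  set g := LocalizedModule.mkLinearMap T N with hg
  rw [injective_iff_map_eq_zero]
  intro x hx
  have hnat : ∀ z : Q ⊗[R] N, AlgebraTensorModule.rTensor R Q g (TensorProduct.comm R Q N z) =
      TensorProduct.comm R Q (LocalizedModule T N) ((g.restrictScalars R).lTensor Q z) := by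
    intro z
    induction z using TensorProduct.induction_on with
    | zero => simp
    | tmul q n => simp
    | add a b ha hb => rw [map_add, map_add, ha, hb, map_add, map_add]
  have hnat2 : ∀ (t : S) (z : Q ⊗[R] N), t • (TensorProduct.comm R Q N z) =
      TensorProduct.comm R Q N (((LinearMap.lsmul S N t).restrictScalars R).lTensor Q z) := by
    intro t z
    induction z using TensorProduct.induction_on with
    | zero => simp
    | tmul q n =>
      rw [TensorProduct.comm_tmul, TensorProduct.smul_tmul']
      rfl
    | add a b ha hb => rw [map_add, smul_add, ha, hb, map_add, map_add]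
  have h1 : AlgebraTensorModule.rTensor R Q g (TensorProduct.comm R Q N x) = 0 := by
    rw [hnat, hx, map_zero]
  obtain ⟨t, ht⟩ := (IsLocalizedModule.eq_zero_iff T (AlgebraTensorModule.rTensor R Q g)).1 h1
  rw [Submonoid.smul_def, hnat2] at ht
  have h2 : ((LinearMap.lsmul S N (t : S)).restrictScalars R).lTensor Q x = 0 :=
    (TensorProduct.comm R Q N).injective (by rw [ht, map_zero])
  exact univInj_lsmul R S N t t.2 Q (by rw [h2, map_zero])

end

end Groth.Agent.Helper7.NzdFiber
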