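import Mathlib
import Groth.Prelude.Def_FlatCA
import Groth.Agent.Lib.Helper7.NzdFiber.Main
import Groth.Agent.Lib.Helper7.NzdFiber.Primes

/-! helper7: for a module projective over a local ring, associated primes of every fibre
`N ⊗ κ(p)` meet the closed fibre. -/

set_option linter.style.haveILetI false
set_option linter.unusedVariables false
set_option linter.unusedSectionVars false
set_option linter.overlappingInstances false

open TensorProduct IsLocalRing

namespace Groth.Agent.Helper7.NzdFiber

universe u

section

variable (R S : Type u) [CommRing R] [IsLocalRing R] [CommRing S] [Algebra R S]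
  (N : Type u) [AddCommGroup N] [Module S N] [Module R N] [IsScalarTower R S N]

theorem smul_comm_tmul (Q : Type u) [AddCommGroup Q] [Module R Q] (t : S) (z : Q ⊗[R] N) :
    t • (TensorProduct.comm R Q N z) =
      TensorProduct.comm R Q N (((LinearMap.lsmul S N t).restrictScalars R).lTensor Q z) := by
  induction z using TensorProduct.induction_on with
  | zero => simp
  | tmul q n =>
    rw [TensorProduct.comm_tmul, TensorProduct.smul_tmul']
    rfl
  | add a b ha hb => rw [map_add, smul_add, ha, hb, map_add, map_add]

theorem sup_map_ne_top [Module.Projective R N]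
    [IsNoetherianRing ((maximalIdeal R).Fiber S)]
    [Module.Finite ((maximalIdeal R).Fiber S) (FlatCA.fiberMod (maximalIdeal R) S N)]
    (p : Ideal R) [p.IsPrime] (q : Ideal S) [q.IsPrime]
    (hq : q ∈ FlatCA.ass S (N ⊗[R] p.ResidueField)) :
    q ⊔ (maximalIdeal R).map (algebraMap R S) ≠ ⊤ := by
  obtain ⟨hqp, m, hm⟩ := hq
  have hdisj : Disjoint (q : Set S) (FlatCA.nzdFiber R S N) := by
    rw [Set.disjoint_left]
    intro s hs hsT
    rw [SetLike.mem_coe, hm, Submodule.mem_annihilator_span_singleton] at hs
    obtain ⟨z, rfl⟩ := (TensorProduct.comm R p.ResidueField N).surjective m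
    rw [smul_comm_tmul] at hs
    have h1 : ((LinearMap.lsmul S N s).restrictScalars R).lTensor p.ResidueField z = 0 :=
      (TensorProduct.comm R p.ResidueField N).injective (by rw [hs, map_zero])
    have h2 : z = 0 := univInj_lsmul R S N s hsT p.ResidueField (by rw [h1, map_zero])
    apply hqp.ne_top
    rw [hm, h2, map_zero, Ideal.eq_top_iff_one, Submodule.mem_annihilator_span_singleton,
      smul_zero]
  obtain ⟨q', hq', hle⟩ := (disjoint_iff R S N q).1 hdisj
  have hq'p : q'.IsPrime := hq'.isPrime
  have hmle : (maximalIdeal R).map (algebraMap R S) ≤ q' := by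
    obtain ⟨_, x, hx⟩ := hq'
    rw [Ideal.map_le_iff_le_comap]
    intro a ha
    rw [Ideal.mem_comap, hx]
    apply Ideal.le_radical
    rw [Submodule.mem_colon_singleton, Submodule.mem_bot]
    exact algebraMap_smul_fiberMod R S N a ha x
  intro htop
  apply hq'p.ne_top
  rw [eq_top_iff, ← htop]
  exact sup_le hle hmle

end

end Groth.Agent.Helper7.NzdFiber
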